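import Cfsg.Agent.FT.BG45_b
import Cfsg.Agent.FT.Base_crit
import Cfsg.Agent.FT.Base5
import Cfsg.Agent.H4.ElemAb

set_option autoImplicit false
set_option linter.unusedSectionVars false

/-! BG §4, part c: 4.4(b), 4.13 - 4.15, 4.17. -/

namespace CfsgFT.B45

open Subgroup CfsgH5 CfsgH6
open scoped commutatorElement

universe u

variable {G : Type u} [Group G] [Finite G] {p : ℕ}

theorem card_modEq_inf_C {q : ℕ} (hq : q.Prime) {Q H : Subgroup G} (hQ : IsPGroup q Q)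
    (hn : Nrm Q H) : Nat.card H ≡ Nat.card ↥(H ⊓ C Q) [MOD q] := by
  haveI := Fact.mk hq
  let ψ : Q →* MulAut H := H.normalizerMonoidHom.comp (inclusion (nrm_iff.1 hn))
  let _ : MulAction Q H := MulAction.compHom _ ψ
  rw [← Nat.card_congr (⟨fun x => ⟨x.1, x.1.2, fun a ha => mul_inv_eq_iff_eq_mul.1
    (congrArg Subtype.val (x.2 ⟨a, ha⟩))⟩, fun x => ⟨⟨x.1, x.2.1⟩, fun a =>
      Subtype.ext (mul_inv_eq_iff_eq_mul.2 (x.2.2 a a.2))⟩, fun _ => rfl, fun _ => rfl⟩ :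
        MulAction.fixedPoints Q H ≃ ↥(H ⊓ C Q))]
  exact hQ.card_modEq_card_fixedPoints H

theorem exists_sylIn_not_le {q : ℕ} (hq : q.Prime) {A K : Subgroup G} (h : q ∣ K.relIndex A) :
    ∃ Q, SylIn q Q A ∧ ¬ Q ≤ K := by
  haveI := Fact.mk hq
  obtain ⟨Q, hQ⟩ := exists_sylIn q A
  refine ⟨Q, hQ, fun e => hQ.not_dvd_relIndex ?_⟩
  rw [← inf_relIndex_right] at h
  exact h.trans (relIndex_dvd_of_le_left _ (le_inf e hQ.le))

variable [hp : Fact p.Prime]

theorem dvd_sq_sub_one_of_modEq {q i j : ℕ} (hq : q.Prime) (hne : q ≠ p) (h1 : j < i)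
    (h2 : i ≤ j + 2) (h : p ^ i ≡ p ^ j [MOD q]) : q ∣ p ^ 2 - 1 := by
  obtain ⟨d, rfl⟩ := Nat.exists_eq_add_of_lt h1
  have h3 := (Nat.modEq_iff_dvd' (Nat.pow_le_pow_right hp.out.pos h1.le)).1 h.symm
  rw [add_assoc, pow_add, ← Nat.mul_sub_one] at h3
  have h4 := (((Nat.coprime_primes hq hp.out).2 hne).pow_right j).dvd_of_dvd_mul_left h3
  have : d = 0 ∨ d = 1 := by omega
  rcases this with rfl | rfl
  · rw [zero_add, pow_one] at h4
    exact h4.trans (by simpa using Nat.sub_dvd_pow_sub_pow p 1 2)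
  · exact h4

theorem dvd_sq_sub_one_of_act {q : ℕ} (hq : q.Prime) (hne : q ≠ p) {Q H : Subgroup G}
    (hQ : IsPGroup q Q) (hn : Nrm Q H) (hH : IsPGroup p H) (h1 : ¬ H ≤ C Q)
    (h2 : Nat.card H ∣ Nat.card ↥(H ⊓ C Q) * p ^ 2) : q ∣ p ^ 2 - 1 := by
  obtain ⟨i, hi⟩ := hH.exists_card_eq
  obtain ⟨j, hj⟩ := (hH.to_le (inf_le_left : H ⊓ C Q ≤ H)).exists_card_eq
  have h3 := card_modEq_inf_C hq hQ hn
  have h4 := card_lt_of_lt (inf_lt_left.2 h1)
  rw [hi, hj] at h2 h3 h4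
  rw [← pow_add, Nat.pow_dvd_pow_iff_le_right hp.out.one_lt] at h2
  exact dvd_sq_sub_one_of_modEq hq hne ((Nat.pow_lt_pow_iff_right hp.out.one_lt).1 h4) h2 h3

theorem nt_of_dvd_sq_sub_one {q : ℕ} (hq : q.Prime) (ho : Odd p) (h : q ∣ p ^ 2 - 1) :
    q < p ∧ (q ∣ (p + 1) / 2 ∨ q ∣ (p - 1) / 2) := by
  obtain ⟨m, hm⟩ := ho
  have h1 := hp.out.two_le
  have e1 : (p + 1) / 2 = m + 1 := by omega
  have e2 : (p - 1) / 2 = m := by omega
  have e3 : p ^ 2 - 1 = 2 * (2 * ((m + 1) * m)) := by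
    rw [hm]; exact Nat.sub_eq_of_eq_add (by ring)
  have key : q ∣ m + 1 ∨ q ∣ m := by
    rw [e3] at h
    have h2 : q ∣ 2 → q ∣ m + 1 ∨ q ∣ m := fun h => by
      obtain rfl := (Nat.prime_dvd_prime_iff_eq hq Nat.prime_two).1 h
      omega
    rcases (Nat.Prime.dvd_mul hq).1 h with h | h
    · exact h2 h
    rcases (Nat.Prime.dvd_mul hq).1 h with h | h
    · exact h2 h
    · exact (Nat.Prime.dvd_mul hq).1 h
  rw [e1, e2]
  refine ⟨?_, key⟩
  rcases key with h | h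
  · have := Nat.le_of_dvd (by omega) h; omega
  · have := Nat.le_of_dvd (by omega) h; omega

/-- BG 4.13, 4.14 -/
theorem pi_Aut_rank2 {q : ℕ} {R A : Subgroup G} (hR : IsPGroup p R) (ho : Odd (Nat.card R))
    (h2 : rank R ≤ 2) (hA : Nrm A R) (hq : q.Prime) (hne : q ≠ p) (hd : q ∣ (C R).relIndex A) :
    q ∣ p ^ 2 - 1 ∧ q < p ∧ (q ∣ (p + 1) / 2 ∨ q ∣ (p - 1) / 2) := by
  obtain ⟨Q, hQ, h1⟩ := exists_sylIn_not_le hq hd
  have hb : R ≠ ⊥ := by rintro rfl; exact h1 (C_bot (G := G) ▸ le_top)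
  suffices q ∣ p ^ 2 - 1 from ⟨this, nt_of_dvd_sq_sub_one hq (odd_of_odd_card hR ho hb) this⟩
  obtain ⟨H, h3, -, h4, -, h5⟩ := critical_odd hp.out hR ho
  have hQR := hA.mono hQ.le
  have hQH := h3.nrm hQR
  have hH := hR.to_le h3.le
  have h6 : ¬ H ≤ C Q := fun e => h1 fun x hx => h5 x (hQR.le_N hx)
    ((piG_compl_of_isPGroup hq hQ.isPGroup hne).piE hx) (le_C_symm e hx)
  have h7 := card_dvd_cube ((rank_mono h3.le).trans h2) h4
  by_cases h8 : H ⊓ C Q = ⊥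
  · have hHb : H ≠ ⊥ := by rintro rfl; exact h6 bot_le
    refine dvd_sq_sub_one_of_act hq hne hQ.isPGroup hQH.Z (hH.to_le (Z_le H)) (fun e => ?_)
      (Dvd.dvd.mul_left (card_dvd_of_rank h2 ((Z_le H).trans h3.le)
        ⟨ab_iff.1 (ab_Z H), fun x hx => h4 x hx.1⟩) _)
    exact Z_ne_bot_of_nilpotent (nilpotent_of_isPGroup hp.out hH) hHb
      (eq_bot_iff.2 (h8 ▸ le_inf (Z_le H) e))
  · refine dvd_sq_sub_one_of_act hq hne hQ.isPGroup hQH hH h6 (h7.trans ?_)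
    rw [pow_succ']
    exact Nat.mul_dvd_mul_right
      (prime_dvd_card_of_isPGroup hp.out (hH.to_le inf_le_left) h8) _

/-- BG 4.15, general form -/
theorem cp_of_comm_le_Z {R S : Subgroup G} (hR : IsPGroup p R) (h1 : S ≤ R)
    (h2 : Nat.card (Z S) ∣ p) (h3 : ⁅S, R⁆ ≤ Z S) : CP S (R ⊓ C S) R := by
  have hn : Nrm R S := nrm_iff_commutator_le.2 (h3.trans (Z_le S))
  have hZ : Z S ≤ C R := le_C_of_card_dvd hR ((Z_le S).trans h1) hn.Z h2
  obtain ⟨Y, h4, ⟨h5, h6⟩, h7⟩ := exists_maximal_ge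
    (P := fun Y => Y ≤ S ∧ (C Y).relIndex R ≤ (Z S).relIndex Y) (X := Z S)
    ⟨Z_le S, by rw [relIndex_eq_one.2 (le_C_symm hZ), relIndex_self]⟩
  have h8 : Y = S := by
    by_contra hne
    obtain ⟨s, hs, h9⟩ := SetLike.exists_of_lt (lt_of_le_of_ne h5 hne)
    have h10 : Y ⊔ zpowers s ≤ S := sup_le h5 (zpowers_le.2 hs)
    refine h9 (h7 (Y ⊔ zpowers s) ⟨h10, ?_⟩ le_sup_left ▸ mem_sup_right (mem_zpowers s))
    have h11 : p ∣ Y.relIndex (Y ⊔ zpowers s) := by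
      obtain ⟨k, hk⟩ := (hR.to_le (h10.trans h1)).exists_card_eq
      obtain ⟨j, -, hj⟩ := (Nat.dvd_prime_pow hp.out).1 (hk ▸ relIndex_dvd_card' Y _)
      rw [hj]
      refine dvd_pow_self p ?_
      rintro rfl
      exact h9 (relIndex_eq_one.1 (hj.trans (pow_zero p)) (mem_sup_right (mem_zpowers s)))
    rw [C_sup, C_zpowers, ← relIndex_mul_relIndex (Z S) Y _ h4 le_sup_left]
    refine relIndex_inf_le.trans (Nat.mul_le_mul h6 (le_trans ?_
      (Nat.le_of_dvd (relIndex_pos _ _) h11)))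
    exact (relIndex_C1_le fun g hg => comm_mem_symm (h3 (commutator_mem_commutator hs hg))).trans
      (Nat.le_of_dvd hp.out.pos h2)
  subst h8
  refine ⟨inf_le_right, sup_eq_of_card_le h1 inf_le_left ?_⟩
  rw [← inf_assoc, inf_eq_left.2 h1, ← card_inf_mul_relIndex (C Y) R, inf_comm (C Y),
    ← card_mul_relIndex (Z_le Y)]
  nlinarith [Nat.mul_le_mul_left (Nat.card ↥(Z Y) * Nat.card ↥(R ⊓ C Y)) h6]

/-- BG 4.15 -/
theorem cp_of_extraSp {R S : Subgroup G} (hR : IsPGroup p R) (h1 : S ≤ R) (h2 : ExtraSp S)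
    (h3 : ⁅S, R⁆ ≤ D S) : CP S (R ⊓ C S) R := by
  refine cp_of_comm_le_Z hR h1 (dvd_of_eq ?_) (h2.1.2 ▸ h3)
  exact ((Nat.prime_dvd_prime_iff_eq hp.out h2.2).1 (prime_dvd_card_of_isPGroup hp.out
    (hR.to_le ((Z_le S).trans h1)) (ne_bot_of_prime_card h2.2))).symm

/-- BG 4.4(b) -/
theorem SCN_sylIn_dp {R M A : Subgroup G} (hR : SylIn p R M) (hA : SCN A R) :
    DP A (Opc p (M ⊓ C A)) (M ⊓ C A) := by
  have h1 : A ≤ M ⊓ C A := le_inf (hA.1.trans hR.le) (SCN.ab hA)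
  have h2 : SylIn p A (M ⊓ C A) := by
    have h3 := (hR.of_le (le_inf hR.le hA.2.1.le_N) inf_le_left).inf_nrm
      (inf_le_inf_left M (C_le_N A)) ((Nrm.of_le inf_le_left).inf ((nrm_N_C A).mono inf_le_right))
    rwa [← inf_assoc, inf_eq_left.2 hR.le, hA.2.2] at h3
  obtain ⟨K, h3, h4⟩ := (SylIn.hall hp.out h2).exists_sdp (nrm_of_le_C inf_le_right)
  have h5 := h3.dp (h3.right_le.trans inf_le_right)
  have e : K = Opc p (M ⊓ C A) := h4.eq_Opi h5.normalIn_right.2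
  rwa [← e]

/-! ### automorphisms of cyclic sections -/

omit hp in
theorem aut_of_cyclic {A K : Subgroup G} (hK : IsCyclic K) (hn : Nrm A K) :
    D A ≤ C K ∧ ∀ x ∈ A, x ^ (Nat.card K).totient ∈ C K := by
  let ψ : A →* MulAut K := K.normalizerMonoidHom.comp (inclusion (nrm_iff.1 hn))
  have h1 : ∀ x : A, ψ x = 1 → (x : G) ∈ C K := fun x h k hk =>
    (mul_inv_eq_iff_eq_mul.1 (congrArg Subtype.val (DFunLike.congr_fun h (⟨k, hk⟩ : K)))).symm
  refine ⟨commutator_le.2 fun x hx y hy => h1 ⁅(⟨x, hx⟩ : A), (⟨y, hy⟩ : A)⁆ ?_, fun x hx =>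
    h1 (⟨x, hx⟩ ^ _) ?_⟩
  · rw [map_commutatorElement, commutatorElement_eq_one_iff_mul_comm]
    exact (IsCyclic.mulAutMulEquiv K).injective (by rw [map_mul, map_mul, mul_comm])
  · rw [map_pow, ← IsCyclic.card_mulAut, pow_card_eq_one']

theorem aut_of_prime_section {A K L : Subgroup G} (h1 : NormalIn L K) (h2 : L.relIndex K = p)
    (h3 : Nrm A K) (h4 : Nrm A L) :
    ⁅D A, K⁆ ≤ L ∧ ∀ x ∈ A, ⁅zpowers (x ^ (p - 1)), K⁆ ≤ L := by
  rw [← card_quo h1.2] at h2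
  obtain ⟨h5, h6⟩ := aut_of_cyclic (isCyclic_of_prime_card' (h2 ▸ hp.out)) (h3.quo L)
  refine ⟨(quo_le_C_iff (h4.mono (D_le A)) h1.2).1 (quo_D h4 ▸ h5), fun x hx => ?_⟩
  have h7 : x ^ (p - 1) ∈ N L := h4.le_N (A.pow_mem hx _)
  rw [← quo_le_C_iff (nrm_zpowers_iff.2 h7) h1.2, quo, img_zpowers _ h7, zpowers_le]
  have := h6 _ (mem_img_of_mem (qm L) (h4.le_N hx) hx)
  rwa [h2, Nat.totient_prime hp.out, ← map_pow] at this

/-! ### solvable subgroups of odd order of `GL(2,p)` -/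

section GL2

open Matrix

theorem exists_eq_of_commute {F : Type*} [Field F] (h2 : (2 : F) ≠ 0) {n m : Matrix (Fin 2) (Fin 2) F}
    (h0 : n ≠ 0) (ht : n.trace = 0) (h : n * m = m * n) : ∃ α β : F, m = α • 1 + β • n := by
  rw [Matrix.trace_fin_two] at ht
  have e11 := congrFun (congrFun h 0) 0
  have e12 := congrFun (congrFun h 0) 1
  have e21 := congrFun (congrFun h 1) 0
  simp only [Matrix.mul_apply, Fin.sum_univ_two] at e11 e12 e21
  have hd : n 1 1 = -n 0 0 := by linear_combination ht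
  rw [hd] at e12 e21
  suffices ∃ β : F, m 0 0 - m 1 1 = 2 * β * n 0 0 ∧ m 0 1 = β * n 0 1 ∧ m 1 0 = β * n 1 0 by
    obtain ⟨β, h1, h3, h4⟩ := this
    refine ⟨(m 0 0 + m 1 1) / 2, β, ?_⟩
    ext i j
    fin_cases i <;> fin_cases j <;> simp [h3, h4, hd] <;> field_simp
    · linear_combination h1
    · linear_combination -h1
  by_cases ha : n 0 0 ≠ 0
  · refine ⟨(m 0 0 - m 1 1) / (2 * n 0 0), ?_, ?_, ?_⟩ <;> field_simp
    · linear_combination e12
    · linear_combination -e21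
  rw [not_not] at ha
  rw [ha] at e11 e12 e21 hd ⊢
  by_cases hb : n 0 1 ≠ 0
  · refine ⟨m 0 1 / n 0 1, mul_left_cancel₀ hb (by linear_combination -e12), ?_, ?_⟩ <;> field_simp
    linear_combination e11
  rw [not_not] at hb
  rw [hb] at e11 e12 ⊢
  have hc : n 1 0 ≠ 0 := fun hc => h0 (by
    ext i j
    fin_cases i <;> fin_cases j <;> simp [ha, hb, hc, hd])
  refine ⟨m 1 0 / n 1 0, mul_left_cancel₀ hc (by linear_combination e21),
    mul_left_cancel₀ hc (by linear_combination -e11), ?_⟩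
  field_simp

theorem pow_eq_one_of_mem_D_GL2 {F : Type u} [Field F] [Finite F] [CharP F p] (ho : Odd p)
    {B : Subgroup (GL (Fin 2) F)} (hs : Group.IsSolvable B) (hB : Odd (Nat.card B)) :
    ∀ x ∈ D B, x ^ p = 1 := by
  by_cases hb : D B = ⊥
  · intro x hx; rw [(mem_bot.1 (hb ▸ hx) : x = 1), one_pow]
  have h2 : (2 : F) ≠ 0 := fun e => by
    have := (CharP.cast_eq_zero_iff F p 2).1 (by exact_mod_cast e)
    rw [(Nat.prime_dvd_prime_iff_eq hp.out Nat.prime_two).1 this] at ho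
    exact absurd ho (by decide)
  have hsq : ∀ g ∈ B, ∀ X : Subgroup (GL (Fin 2) F), g ^ 2 ∈ X → g ∈ X := fun g hg X h =>
    mem_of_pow_mem_of_coprime' (Nat.coprime_two_right.2 (hB.of_dvd_nat (orderOf_dvd_card' hg))) h
  have hdet : ∀ g ∈ D B, (g : Matrix (Fin 2) (Fin 2) F).det = 1 := fun g hg => by
    have : D B ≤ (GeneralLinearGroup.det (n := Fin 2) (R := F)).ker :=
      commutator_le.2 fun x _ y _ => by
        rw [MonoidHom.mem_ker, map_commutatorElement, commutatorElement_eq_one_iff_mul_comm, mul_comm]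
    exact congrArg Units.val (this hg)
  obtain ⟨K, hK, r, -, hK1, hK2⟩ := exists_minNrm_elAb hb (Nrm.self B).D (solvable_of_le hs (D_le B))
  obtain ⟨⟨b, hbK⟩, hb1⟩ := ne_bot_iff_exists_ne_one.1 hK1.ne_bot
  have hb1 : b ≠ 1 := fun e => hb1 (Subtype.ext e)
  obtain ⟨t, n, hn, ht⟩ : ∃ (t : F) (n : Matrix (Fin 2) (Fin 2) F),
      (b : Matrix (Fin 2) (Fin 2) F) = t • 1 + n ∧ n.trace = 0 :=
    ⟨(b : Matrix (Fin 2) (Fin 2) F).trace / 2, b - ((b : Matrix (Fin 2) (Fin 2) F).trace / 2) • 1,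
      by simp, by simp; field_simp; ring⟩
  have hdet' : ∀ α β : F, (α • (1 : Matrix (Fin 2) (Fin 2) F) + β • n).det = α ^ 2 + β ^ 2 * n.det :=
    fun α β => by
      rw [Matrix.trace_fin_two] at ht
      simp only [Matrix.det_fin_two, Matrix.add_apply, Matrix.smul_apply, smul_eq_mul, one_apply_eq,
        ne_eq, zero_ne_one, not_false_eq_true, one_apply_ne, one_ne_zero]
      linear_combination α * β * ht
  have hnn : n * n = (-n.det) • 1 := by
    rw [Matrix.trace_fin_two] at ht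
    have hd : n 1 1 = -n 0 0 := by linear_combination ht
    ext i j
    fin_cases i <;> fin_cases j <;> simp [Matrix.mul_apply, Matrix.det_fin_two, hd] <;> ring
  have h0 : n ≠ 0 := by
    rintro rfl
    have h3 := hdet b (hK hbK)
    have h4 := hdet' t 0
    rw [zero_smul, ← hn, h3] at h4
    refine hb1 (mem_bot.1 (hsq b (D_le B (hK hbK)) ⊥ (mem_bot.2 (Units.ext ?_))))
    rw [Units.val_pow_eq_pow_val, hn, add_zero, smul_pow, one_pow, show t ^ 2 = 1 by
      linear_combination -h4, one_smul, Units.val_one]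
  have hC : ∀ g : GL (Fin 2) F, g ∈ C1 b ↔ n * g = g * n := fun g => by
    rw [mem_C1, Units.ext_iff, Units.val_mul, Units.val_mul, hn, mul_add, add_mul]
    simp [eq_comm]
  have hconj : ∀ g ∈ B, ∃ β : F, β ≠ 0 ∧ (g : Matrix (Fin 2) (Fin 2) F) * n = β • (n * g) := by
    intro g hg
    obtain ⟨α, β, h3⟩ := exists_eq_of_commute h2 h0 ht ((hC _).1
      (mem_C1.2 (hK2.1 _ (hK1.nrm g hg b hbK) b hbK)))
    have h4 : (g : Matrix (Fin 2) (Fin 2) F) * b = (α • 1 + β • n) * g := by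
      rw [← h3, ← Units.val_mul, ← Units.val_mul, inv_mul_cancel_right]
    have h5 : α = t := by
      have := congrArg Matrix.trace h3
      rw [Units.val_mul, Units.val_mul, Matrix.trace_units_conj, hn] at this
      simp only [trace_add, trace_smul, trace_one, ht] at this
      simp at this
      exact (this.resolve_right h2).symm
    rw [hn, h5, mul_add, add_mul] at h4
    have h6 : (g : Matrix (Fin 2) (Fin 2) F) * n = β • (n * g) := by simpa using h4
    refine ⟨β, ?_, h6⟩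
    rintro rfl
    exact h0 ((Units.mul_right_eq_zero g).1 (by simpa using h6))
  by_cases hd : n.det = 0
  · have h3 : D B ≤ C1 b := commutator_le.2 fun g hg h hh => by
      obtain ⟨β, h1, h3⟩ := hconj g hg
      obtain ⟨γ, h4, h5⟩ := hconj h hh
      rw [hC]
      have e : ((⁅g, h⁆ : GL (Fin 2) F) : Matrix (Fin 2) (Fin 2) F) * (h * g) = g * h := by
        rw [← Units.val_mul, ← Units.val_mul, ← Units.val_mul, commutatorElement_def]; group
      generalize ((⁅g, h⁆ : GL (Fin 2) F) : Matrix (Fin 2) (Fin 2) F) = c at e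
      have e1 : (g : Matrix (Fin 2) (Fin 2) F) * h * n = (γ * β) • (n * (g * h)) := by
        rw [mul_assoc, h5, mul_smul_comm, ← mul_assoc, h3, smul_mul_assoc, smul_smul, mul_assoc]
      have e2 : (h : Matrix (Fin 2) (Fin 2) F) * g * n = (γ * β) • (n * (h * g)) := by
        rw [mul_assoc, h3, mul_smul_comm, ← mul_assoc, h5, smul_mul_assoc, smul_smul, mul_assoc,
          mul_comm γ]
      rw [← e, mul_assoc, e2, mul_smul_comm] at e1
      have e3 := smul_right_injective _ (mul_ne_zero h4 h1) e1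
      refine (Units.mul_left_inj (h * g)).1 ?_
      rw [Units.val_mul, mul_assoc, mul_assoc, e3]
    intro x hx
    obtain ⟨α, β, h4⟩ := exists_eq_of_commute h2 h0 ht ((hC x).1 (h3 hx))
    have h5 := hdet' α β
    rw [← h4, hdet x hx, hd] at h5
    refine mem_bot.1 (hsq _ (B.pow_mem (D_le B hx) p) ⊥ (mem_bot.2 (Units.ext ?_)))
    have h6 : n ^ p = 0 := by
      obtain ⟨k, hk⟩ := Nat.exists_eq_add_of_le hp.out.two_le
      rw [hk, pow_add, sq, hnn, hd]; simp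
    rw [Units.val_pow_eq_pow_val, Units.val_pow_eq_pow_val, h4, add_pow_char_of_commute _ (by
      simp [Commute, SemiconjBy, smul_smul, mul_comm α]), smul_pow, smul_pow, h6, smul_zero, add_zero, one_pow, smul_pow,
      one_pow, ← pow_mul, mul_comm p, pow_mul, show α ^ 2 = 1 by linear_combination -h5]
    simp
  · refine absurd (D_eq_bot.2 (ab_iff.2 fun g hg h hh => Units.ext ?_)) hb
    have h3 : B ≤ C1 b := fun g hg => hsq g hg _ ((hC _).2 (by
      obtain ⟨β, -, h3⟩ := hconj g hg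
      have h4 : (g : Matrix (Fin 2) (Fin 2) F) * (n * n) = (β * β) • (n * n * g) := by
        rw [← mul_assoc, h3, smul_mul_assoc, mul_assoc, h3, mul_smul_comm, smul_smul, mul_assoc]
      have h5 : β * β = 1 := by
        rw [hnn] at h4
        simp only [mul_smul_comm, mul_one, smul_mul_assoc, one_mul, smul_smul] at h4
        have h6 := smul_left_injective F (Units.ne_zero g) h4
        exact mul_right_cancel₀ (neg_ne_zero.2 hd) (by linear_combination -h6)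
      rw [Units.val_pow_eq_pow_val, sq, mul_assoc, h3, mul_smul_comm, ← mul_assoc _ n, h3,
        smul_mul_assoc, smul_smul, h5, one_smul, mul_assoc]))
    obtain ⟨α, β, h4⟩ := exists_eq_of_commute h2 h0 ht ((hC g).1 (h3 hg))
    rw [Units.val_mul, Units.val_mul, h4, mul_add, add_mul]
    simp [(hC h).1 (h3 hh)]

end GL2

theorem pow_mem_C_of_elAb {A V : Subgroup G} (ho : Odd p) (hV : ElAb p V)
    (h2 : Nat.card V ∣ p ^ 2) (hn : Nrm A V) (hs : Group.IsSolvable A) (hA : Odd (Nat.card A)) :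
    ∀ x ∈ D A, x ^ p ∈ C V := by
  by_cases hc : IsCyclic V
  · exact fun x hx => pow_mem ((aut_of_cyclic hc hn).1 hx) p
  obtain ⟨e, φ, h3, h4⟩ := CfsgH4.exists_hom_GL_ker_eq_centralizer (V.subgroupOf (N V))
    (fun x hx y hy => Subtype.ext (hV.1 _ hx _ hy)) p (fun x hx => Subtype.ext (hV.2 _ hx))
  rw [Nat.card_congr (subgroupOfEquivOfLe (le_N V)).toEquiv] at h3
  obtain rfl : e = 2 := by
    rw [h3, Nat.pow_dvd_pow_iff_le_right hp.out.one_lt] at h2
    by_contra h5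
    exact hc (isCyclic_of_card_dvd_prime (p := p) (by
      rw [h3]; simpa using pow_dvd_pow p (show e ≤ 1 by omega)))
  intro x hx
  have hxN : x ∈ N V := hn.le_N (D_le A hx)
  have h5 := pow_eq_one_of_mem_D_GL2 ho (solvable_img φ hs) (hA.of_dvd_nat (card_img_dvd φ A)) _
    (img_D φ hn.le_N ▸ mem_img_of_mem φ hxN hx)
  rw [← map_pow, ← MonoidHom.mem_ker, h4] at h5
  exact fun v hv => congrArg Subtype.val (h5 ⟨v, le_N V hv⟩ hv)

omit hp in
/-- a `p'`-element acting trivially on `H / L` and on `L` acts trivially -/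
theorem mem_C_of_stab {H L : Subgroup G} (hL : IsPGroup p L) {x : G}
    (hx' : (orderOf x).Coprime p) (h1 : ⁅zpowers x, H⁆ ≤ L) (h2 : x ∈ C L) : x ∈ C H :=
  fun y hy => by
  have h3 := h1 (commutator_mem_commutator (mem_zpowers x) hy)
  obtain ⟨k, hk⟩ := exists_pow_eq_one hL h3
  exact (commute_of_stab hx' (h2 _ h3).symm hk).symm

theorem exists_pow_mem_of_coprime {A K : Subgroup G} (h : ∀ x ∈ A, PiE {p}ᶜ x → x ∈ K) :
    ∀ x ∈ A, ∃ k, x ^ p ^ k ∈ K := fun x hx => by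
  obtain ⟨k, hk⟩ := exists_pow_coprime hp.out x
  exact ⟨k, h _ (A.pow_mem hx _) ((piE_compl_single hp.out).2 hk)⟩

/-- BG 4.17 -/
theorem mem_C_of_mem_D_rank2 {R A : Subgroup G} (hR : IsPGroup p R) (ho : Odd (Nat.card R))
    (h2 : rank R ≤ 2) (hA : Nrm A R) (hs : Group.IsSolvable A) (hA' : Odd (Nat.card A)) :
    ∀ x ∈ D A, PiE {p}ᶜ x → x ∈ C R := by
  intro x hx hx'
  by_cases hb : R = ⊥
  · rw [hb, C_bot]; trivial
  obtain ⟨H, h3, h6, h4, -, h5⟩ := critical_odd hp.out hR ho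
  have ho := odd_of_odd_card hR ho hb
  refine h5 x (hA.le_N (D_le A hx)) hx' ?_
  have hAH := h3.nrm hA
  have hH := hR.to_le h3.le
  have hc := (piE_compl_single hp.out).1 hx'
  have key : ∀ V : Subgroup G, ElAb p V → V ≤ R → Nrm A V → x ∈ C V := fun V h1 h7 h8 =>
    mem_of_pow_mem_of_coprime' hc
      (pow_mem_C_of_elAb ho h1 (card_dvd_of_rank h2 h7 h1) h8 hs hA' x hx)
  have hZ : ElAb p (Z H) := ⟨ab_iff.1 (ab_Z H), fun x hx => h4 x hx.1⟩
  refine mem_C_of_stab (hH.to_le (Z_le H)) hc ?_ (key _ hZ ((Z_le H).trans h3.le) hAH.Z)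
  by_cases hHb : H = ⊥
  · simp [hHb]
  have h7 : ElAb p (quo (Z H) H) := (elAb_quo_iff (Nrm.self H).Z).2
    ⟨(commutator_mono le_rfl h3.le).trans h6, fun y hy => h4 y hy ▸ one_mem _⟩
  have h8 : Nat.card (quo (Z H) H) ∣ p ^ 2 := by
    have h9 := card_dvd_cube ((rank_mono h3.le).trans h2) h4
    rw [← card_mul_relIndex (Z_le H), ← card_quo (Nrm.self H).Z, pow_succ'] at h9
    refine Nat.dvd_of_mul_dvd_mul_left hp.out.pos ((Nat.mul_dvd_mul_right ?_ _).trans h9)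
    exact prime_dvd_card_of_isPGroup hp.out (hH.to_le (Z_le H))
      (Z_ne_bot_of_nilpotent (nilpotent_of_isPGroup hp.out hH) hHb)
  have hxN : x ∈ N (Z H) := hAH.Z.le_N (D_le A hx)
  rw [← quo_le_C_iff (nrm_zpowers_iff.2 hxN) (Nrm.self H).Z, quo, img_zpowers _ hxN, zpowers_le]
  refine mem_of_pow_mem_of_coprime' (coprime_map _ (by rwa [Subgroup.orderOf_mk]))
    (pow_mem_C_of_elAb ho h7 h8 (hAH.quo _) (solvable_quo _ hs)
      (hA'.of_dvd_nat (card_quo_dvd _ _)) _ (quo_D hAH.Z ▸ mem_img_of_mem _ hxN hx))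

end CfsgFT.B45
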