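import Cfsg.Agent.FT.Base7
import Cfsg.Agent.H4.ElemAb

set_option autoImplicit false
set_option linter.unusedSectionVars false

/-! Base API 8: `El`, `ElMax`, `pRank`, `rank`, `SCN`. -/

namespace CfsgFT

open Subgroup CfsgH5 CfsgH6
open scoped commutatorElement

universe u

variable {G : Type u} [Group G] [Finite G] {π ρ : Set ℕ} {p k : ℕ}

/-! ### elementary abelian subgroups -/

theorem El.le {A M : Subgroup G} (h : El p k A M) : A ≤ M := h.1
theorem El.elAb {A M : Subgroup G} (h : El p k A M) : ElAb p A := h.2.1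
theorem El.card {A M : Subgroup G} (h : El p k A M) : Nat.card A = p ^ k := h.2.2
theorem El.ab {A M : Subgroup G} (h : El p k A M) : Ab A := h.2.1.ab
theorem El.isPGroup {A M : Subgroup G} (h : El p k A M) : IsPGroup p A := h.2.1.isPGroup
theorem El.mono {A M L : Subgroup G} (h : El p k A M) (h' : M ≤ L) : El p k A L := ⟨h.1.trans h', h.2⟩
theorem El.of_le {A M L : Subgroup G} (h : El p k A M) (h' : A ≤ L) : El p k A L := ⟨h', h.2⟩
theorem El.self {A M : Subgroup G} (h : El p k A M) : El p k A A := h.of_le le_rfl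
theorem El.cjj {A M : Subgroup G} (h : El p k A M) (g : G) : El p k (cj g A) (cj g M) :=
  ⟨cj_mono h.1, h.2.1.cjj g, by rw [card_cj, h.2.2]⟩
theorem El.cj_mem {A M : Subgroup G} (h : El p k A M) {g : G} (hg : g ∈ M) : El p k (cj g A) M := by
  simpa only [cj_self hg] using h.cjj g
theorem El.le_Om1 {A M : Subgroup G} (h : El p k A M) : A ≤ Om1 p M := h.2.1.le_Om1 h.1
theorem El.ne_bot (hp : p.Prime) {A M : Subgroup G} (h : El p (k + 1) A M) : A ≠ ⊥ :=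
  one_lt_card.mp (h.2.2 ▸ Nat.one_lt_pow k.succ_ne_zero hp.one_lt)
theorem El.card_one {A M : Subgroup G} (h : El p 1 A M) : Nat.card A = p := by rw [h.2.2, pow_one]
theorem El.prime_card (hp : p.Prime) {A M : Subgroup G} (h : El p 1 A M) : (Nat.card A).Prime :=
  h.card_one ▸ hp
theorem El.isCyclic (hp : p.Prime) {A M : Subgroup G} (h : El p 1 A M) : IsCyclic A :=
  isCyclic_of_prime_card' (h.prime_card hp)
theorem El.dvd_card {A M : Subgroup G} (h : El p (k + 1) A M) : p ∣ Nat.card M :=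
  (h.2.2 ▸ dvd_pow_self p k.succ_ne_zero : p ∣ Nat.card A).trans (card_dvd_of_le h.1)
theorem El.eq_of_le {A B M L : Subgroup G} (h : El p k A M) (h' : El p k B L) (hAB : A ≤ B) : A = B :=
  eq_of_le_of_card_eq hAB (h.2.2.trans h'.2.2.symm)
theorem el_zero {M : Subgroup G} : El p 0 ⊥ M := ⟨bot_le, elAb_bot, by simp⟩
theorem El.eq_bot {A M : Subgroup G} (h : El p 0 A M) : A = ⊥ := card_eq_one_iff.mp h.2.2

theorem elAb_of_card_eq (hp : p.Prime) {X : Subgroup G} (h : Nat.card X = p) : ElAb p X :=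
  ⟨ab_iff.mp (ab_of_isCyclic (isCyclic_of_prime_card' (h ▸ hp))),
    fun _ hx => h ▸ orderOf_dvd_iff_pow_eq_one.mp (orderOf_dvd_card' hx)⟩

theorem el_one_iff (hp : p.Prime) {X M : Subgroup G} : El p 1 X M ↔ X ≤ M ∧ Nat.card X = p :=
  ⟨fun h => ⟨h.1, h.card_one⟩, fun h => ⟨h.1, elAb_of_card_eq hp h.2, by rw [h.2, pow_one]⟩⟩

theorem el_one_zpowers (hp : p.Prime) {M : Subgroup G} {x : G} (hx : x ∈ M) (h : orderOf x = p) :
    El p 1 (zpowers x) M := (el_one_iff hp).mpr ⟨zpowers_le.mpr hx, by rwa [Nat.card_zpowers]⟩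

theorem exists_el_one (hp : p.Prime) {M : Subgroup G} (h : p ∣ Nat.card M) : ∃ X, El p 1 X M :=
  let ⟨_, hx, e⟩ := exists_mem_orderOf_eq hp h; ⟨_, el_one_zpowers hp hx e⟩

theorem exists_el_one_of_isPGroup (hp : p.Prime) {M : Subgroup G} (h : IsPGroup p M) (hne : M ≠ ⊥) :
    ∃ X, El p 1 X M := exists_el_one hp (prime_dvd_card_of_isPGroup hp h hne)

theorem exists_el_one_of_ne_bot {M : Subgroup G} (hne : M ≠ ⊥) : ∃ p : ℕ, p.Prime ∧ ∃ X, El p 1 X M :=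
  let ⟨p, hp, h⟩ := exists_prime_dvd_card hne; ⟨p, hp, exists_el_one hp h⟩

theorem El.exists_zpowers (hp : p.Prime) {X M : Subgroup G} (h : El p 1 X M) :
    ∃ x, x ≠ 1 ∧ orderOf x = p ∧ X = zpowers x := by
  obtain ⟨x, rfl⟩ := isCyclic_iff_zpowers.mp (h.isCyclic hp)
  exact ⟨x, zpowers_ne_bot.mp (h.ne_bot hp), by rw [← Nat.card_zpowers, h.card_one], rfl⟩

theorem El.le_or_inf_eq_bot (hp : p.Prime) {X M : Subgroup G} (h : El p 1 X M) (Y : Subgroup G) :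
    X ≤ Y ∨ X ⊓ Y = ⊥ := le_or_inf_eq_bot_of_prime_card (h.prime_card hp) Y

theorem _root_.CfsgH6.ElAb.exists_el (hp : p.Prime) {A : Subgroup G} (h : ElAb p A) :
    ∃ k, El p k A A := let ⟨k, hk⟩ := exists_card_eq_pow hp h.isPGroup; ⟨k, le_rfl, h, hk⟩

theorem _root_.CfsgH6.ElAb.exists_el_of_dvd (hp : p.Prime) {A : Subgroup G} (h : ElAb p A)
    (hd : p ^ k ∣ Nat.card A) : ∃ B, El p k B A :=
  let ⟨B, h1, h2⟩ := exists_le_card_eq_pow hp hd; ⟨B, h1, h.mono h1, h2⟩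

theorem El.exists_le (hp : p.Prime) {A M : Subgroup G} (h : El p k A M) {j : ℕ} (hj : j ≤ k) :
    ∃ B, El p j B A := h.2.1.exists_el_of_dvd hp (h.2.2 ▸ pow_dvd_pow p hj)

/-- a subgroup of intermediate rank -/
theorem El.exists_between (hp : p.Prime) {A B M L : Subgroup G} {i j : ℕ} (hA : El p i A L)
    (hB : El p k B M) (hAB : A ≤ B) (h1 : i ≤ j) (h2 : j ≤ k) : ∃ X, A ≤ X ∧ El p j X B := by
  obtain ⟨X, h3, h4, -, h5⟩ := exists_nrm_card_eq_between hp hB.isPGroup (NormalIn.refl B) hAB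
    (hB.ab.nrm hAB) (j - i) (by rw [hA.2.2, hB.2.2, ← pow_add]; exact pow_dvd_pow p (by omega))
  exact ⟨X, h3, h4, hB.2.1.mono h4, by rw [h5, hA.2.2, ← pow_add]; congr 1; omega⟩

theorem _root_.CfsgH6.ElAb.card_dvd_of_isCyclic {A : Subgroup G} (h : ElAb p A) (hc : IsCyclic A) :
    Nat.card A ∣ p := by
  obtain ⟨x, rfl⟩ := isCyclic_iff_zpowers.mp hc
  rw [Nat.card_zpowers]; exact orderOf_dvd_of_pow_eq_one (h.2 x (mem_zpowers x))

theorem El.not_isCyclic (hp : p.Prime) {A M : Subgroup G} (h : El p (k + 2) A M) : ¬ IsCyclic A :=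
  fun hc => by
    have := h.2.1.card_dvd_of_isCyclic hc
    rw [h.2.2] at this
    have := (Nat.pow_dvd_pow_iff_le_right hp.one_lt).mp (this.trans (pow_one p).symm.dvd)
    omega

theorem El.not_isCyclic_of_le (hp : p.Prime) {A M : Subgroup G} (h : El p (k + 2) A M) :
    ¬ IsCyclic M := fun hc => h.not_isCyclic hp (isCyclic_of_le' hc h.1)

theorem El.le_of_le (hp : p.Prime) {A B M L : Subgroup G} {j : ℕ} (h : El p j A M) (h' : El p k B L)
    (hAB : A ≤ B) : j ≤ k :=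
  (Nat.pow_dvd_pow_iff_le_right hp.one_lt).mp (h.2.2 ▸ h'.2.2 ▸ card_dvd_of_le hAB)

theorem El.relIndex (hp : p.Prime) {A B M L : Subgroup G} {j : ℕ} (h : El p j A M)
    (h' : El p (j + k) B L) (hAB : A ≤ B) : A.relIndex B = p ^ k :=
  relIndex_eq_of_mul hAB (by rw [h.2.2, h'.2.2, pow_add])

theorem El.sup {A B M : Subgroup G} {j : ℕ} (h : El p j A M) (h' : El p k B M) (hc : A ≤ C B)
    (hi : A ⊓ B = ⊥) : El p (j + k) (A ⊔ B) M :=
  ⟨sup_le h.1 h'.1, h.2.1.sup h'.2.1 (le_C_iff.mp hc), by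
    rw [card_sup_of_inf_eq_bot (Or.inl (nrm_of_le_C hc)) hi, h.2.2, h'.2.2, pow_add]⟩

theorem El.sup_one (hp : p.Prime) {A X M : Subgroup G} (h : El p k A M) (h' : El p 1 X M)
    (hc : A ≤ C X) (hi : ¬ X ≤ A) : El p (k + 1) (A ⊔ X) M :=
  h.sup h' hc (by rw [inf_comm]; exact (h'.le_or_inf_eq_bot hp A).resolve_left hi)

theorem El.inf_eq_bot_of_ne (hp : p.Prime) {X Y M L : Subgroup G} (h : El p 1 X M) (h' : El p 1 Y L)
    (hne : X ≠ Y) : X ⊓ Y = ⊥ := (h.le_or_inf_eq_bot hp Y).resolve_left fun e => hne (h.eq_of_le h' e)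

/-- `p2Elem_dprodP` -/
theorem El.dp_of_ne (hp : p.Prime) {A X Y M : Subgroup G} (hA : El p 2 A M) (h : El p 1 X A)
    (h' : El p 1 Y A) (hne : X ≠ Y) : DP X Y A :=
  have hc : X ≤ C Y := h.1.trans (hA.ab.trans (C_anti h'.1))
  ⟨le_C_symm hc, h.inf_eq_bot_of_ne hp h' hne,
    (h.sup h' hc (h.inf_eq_bot_of_ne hp h' hne)).eq_of_le hA (sup_le h.1 h'.1)⟩

theorem El.el_of_lt (hp : p.Prime) {A X M : Subgroup G} (hA : El p 2 A M) (h1 : X < A) (h2 : X ≠ ⊥) :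
    El p 1 X A := by
  obtain ⟨j, hj⟩ := (hA.2.1.mono h1.le).exists_el hp
  have h3 := hj.le_of_le hp hA h1.le
  interval_cases j
  · exact absurd hj.eq_bot h2
  · exact hj.of_le h1.le
  · exact absurd (hj.eq_of_le hA h1.le) h1.ne

theorem El.exists_dp (hp : p.Prime) {A X M L : Subgroup G} {j : ℕ} (hA : El p (j + k) A M)
    (hX : El p j X L) (h : X ≤ A) : ∃ Y, El p k Y A ∧ DP X Y A := by
  obtain ⟨Y, hY⟩ := exists_dp_of_elAb hp hA.2.1 h
  exact ⟨Y, ⟨hY.right_le, hA.2.1.mono hY.right_le, by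
    rw [← hY.sdp.relIndex_left, hX.relIndex hp hA h]⟩, hY⟩

theorem El.exists_ne (hp : p.Prime) {A X M L : Subgroup G} (hA : El p (k + 2) A M) (hX : El p 1 X L) :
    ∃ Y, El p 1 Y A ∧ ¬ Y ≤ X := by
  have : ¬ A ≤ X := fun e => by have := hA.le_of_le hp hX e; omega
  obtain ⟨y, hy, hy'⟩ := SetLike.not_le_iff_exists.mp this
  exact ⟨_, el_one_zpowers hp hy (hA.2.1.orderOf_eq hp hy fun e => hy' (e ▸ one_mem _)),
    by rwa [zpowers_le]⟩

theorem El.img_of_inj {H : Type u} [Group H] {L A M : Subgroup G} {f : L →* H} (h : El p k A M)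
    (h1 : A ≤ L) (h2 : A ⊓ pre f ⊥ = ⊥) : El p k (img f A) (img f M) :=
  ⟨img_mono f h.1, h.2.1.img f, by rw [card_img_of_inj h1 h2, h.2.2]⟩

theorem El.quo_of_inf {K A M : Subgroup G} (h : El p k A M) (h1 : Nrm A K) (h2 : A ⊓ K = ⊥) :
    El p k (quo K A) (quo K M) := h.img_of_inj h1.le_N (inf_ker_qm h2)

/-- a noncyclic abelian `p`-group has rank at least 2 -/
theorem exists_el_two_of_ab (hp : p.Prime) {A : Subgroup G} (h : IsPGroup p A) (hab : Ab A)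
    (hc : ¬ IsCyclic A) : ∃ E, El p 2 E A := by
  haveI := Fact.mk hp
  obtain ⟨j, hj⟩ := (elAb_Om1_of_ab (p := p) hab).exists_el hp
  by_cases h2 : 2 ≤ j
  · exact let ⟨E, hE⟩ := hj.exists_le hp h2; ⟨E, hE.mono (Om1_le p A)⟩
  refine absurd (isCyclic_of_quo_of_le_Phi (Mho1_le_Phi hp h) ((Nrm.self A).Mho1 p)
    (isCyclic_of_card_dvd_prime (p := p) ?_)) hc
  rw [card_quo ((Nrm.self A).Mho1 p), relIndex_Mho1_of_ab hab, hj.2.2]
  simpa using pow_dvd_pow p (by omega : j ≤ 1)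

/-- a noncyclic `p`-group, `p` odd, has rank at least 2 -/
theorem exists_el_two_of_odd (hp : p.Prime) (hp2 : p ≠ 2) {P : Subgroup G} (h : IsPGroup p P)
    (hc : ¬ IsCyclic P) : ∃ E, El p 2 E P := by
  haveI := Fact.mk hp
  by_contra hne
  refine hc (isCyclic_of_odd_of_unique hp hp2 h fun z hz a ha h1 h2 h3 => ?_)
  by_contra h4
  exact hne ⟨_, (el_one_zpowers hp hz h1).sup_one hp (el_one_zpowers hp ha
    (orderOf_eq_prime h2 fun e => h4 (e ▸ one_mem _)))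
    (by rw [C_zpowers, zpowers_le]; exact mem_C1.mpr h3) (by rwa [zpowers_le])⟩

theorem ne_two_of_odd {n : ℕ} (h : Odd n) (hd : p ∣ n) : p ≠ 2 := by
  rintro rfl; exact (Nat.not_even_iff_odd.mpr h) (even_iff_two_dvd.mpr hd)

theorem odd_of_le {X Y : Subgroup G} (h : Odd (Nat.card X)) (hY : Y ≤ X) : Odd (Nat.card Y) :=
  h.of_dvd_nat (card_dvd_of_le hY)

theorem odd_quo (K : Subgroup G) {X : Subgroup G} (h : Odd (Nat.card X)) : Odd (Nat.card (quo K X)) :=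
  h.of_dvd_nat (card_quo_dvd K X)

theorem exists_el_two_of_odd' (hp : p.Prime) {P : Subgroup G} (h : IsPGroup p P)
    (ho : Odd (Nat.card P)) (hc : ¬ IsCyclic P) : ∃ E, El p 2 E P :=
  exists_el_two_of_odd hp (ne_two_of_odd ho (prime_dvd_card_of_isPGroup hp h fun e =>
    hc (e ▸ isCyclic_bot))) h hc

/-- the number of subgroups of order `p` in an elementary abelian group -/
theorem El.ncard_mul (hp : p.Prime) {A M : Subgroup G} (h : El p k A M) :
    {X | El p 1 X A}.ncard * (p - 1) = p ^ k - 1 := by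
  classical
  haveI := Fintype.ofFinite G
  let s : Finset G := Finset.univ.filter fun x => x ∈ A ∧ x ≠ 1
  have hs : ∀ B : Subgroup G, (Finset.univ.filter fun x => x ∈ B ∧ x ≠ 1).card = Nat.card B - 1 := by
    intro B
    have : (Finset.univ.filter fun x => x ∈ B ∧ x ≠ 1) = (Finset.univ.filter (· ∈ B)).erase 1 := by
      ext x; simp [and_comm]
    rw [this, Finset.card_erase_of_mem (by simp), Nat.card_eq_fintype_card, Fintype.card_subtype]
  rw [← h.2.2, ← hs, Set.ncard_eq_toFinset_card _ (Set.toFinite _),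
    Finset.card_eq_sum_card_fiberwise (f := fun x => zpowers x) (t := (Set.toFinite
      {X | El p 1 X A}).toFinset) (fun x hx => by
        simp only [Finset.coe_filter, Finset.mem_univ, true_and, Set.mem_setOf_eq] at hx
        simpa using el_one_zpowers hp hx.1 (h.2.1.orderOf_eq hp hx.1 hx.2)),
    Finset.sum_const_nat (m := p - 1)]
  intro X hX
  have hX' : El p 1 X A := by simpa using hX
  rw [← hX'.card_one, ← hs]; congr 1; ext x
  simp only [Finset.mem_filter, Finset.mem_univ, true_and]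
  exact ⟨fun h => ⟨h.2 ▸ mem_zpowers x, h.1.2⟩, fun h => ⟨⟨hX'.1 h.1, h.2⟩,
    (eq_zpowers_of_prime_card (hX'.prime_card hp) h.1 h.2).symm⟩⟩

/-- `card_p1Elem_p2Elem` -/
theorem El.ncard_two (hp : p.Prime) {A M : Subgroup G} (h : El p 2 A M) :
    {X | El p 1 X A}.ncard = p + 1 := by
  apply Nat.eq_of_mul_eq_mul_right (Nat.sub_pos_of_lt hp.one_lt)
  rw [h.ncard_mul hp, ← Nat.sq_sub_sq, one_pow]

/-- the automorphism group of an elementary abelian group -/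
theorem El.relIndex_C_dvd (hp : p.Prime) {A V M : Subgroup G} (h : El p k V M) (hn : Nrm A V) :
    (C V).relIndex A ∣ ∏ i : Fin k, (p ^ k - p ^ (i : ℕ)) := by
  haveI := Fact.mk hp
  haveI : (V.subgroupOf (N V)).Normal := (nrm_N V).normal_subgroupOf
  obtain ⟨e, φ, h1, h2⟩ := CfsgH4.exists_hom_GL_ker_eq_centralizer (V.subgroupOf (N V))
    (fun x hx y hy => Subtype.ext (h.2.1.1 x hx y hy)) p (fun x hx => Subtype.ext (h.2.1.2 x hx))
  rw [Nat.card_congr (subgroupOfEquivOfLe (le_N V)).toEquiv, h.2.2] at h1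
  obtain rfl := Nat.pow_right_injective hp.two_le h1
  have h3 : pre φ ⊥ = C V := by
    ext g; rw [mem_pre]; constructor
    · rintro ⟨hg, h4⟩ x hx
      exact congrArg Subtype.val (h2.le h4 ⟨x, le_N V hx⟩ hx)
    · exact fun hg => ⟨C_le_N V hg, h2.ge fun x hx => Subtype.ext (hg x hx)⟩
  have h4 := Matrix.card_GL_field (𝔽 := ZMod p) k
  rw [ZMod.card p] at h4
  rw [← h3, ← card_img' φ hn.le_N, ← h4]
  exact card_subgroup_dvd_card _

theorem El.relIndex_C_dvd_two (hp : p.Prime) {A V M : Subgroup G} (h : El p 2 V M) (hn : Nrm A V) :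
    (C V).relIndex A ∣ (p ^ 2 - 1) * (p ^ 2 - p) := by
  simpa [Fin.prod_univ_two] using h.relIndex_C_dvd hp hn

/-- a prime `q ≠ p` acting nontrivially on `E_{p²}` divides `p - 1` or `p + 1` -/
theorem El.dvd_of_dvd_relIndex_C {q : ℕ} (hp : p.Prime) (hq : q.Prime) (hqp : q ≠ p)
    {A V M : Subgroup G} (h : El p 2 V M) (hn : Nrm A V) (hd : q ∣ (C V).relIndex A) :
    q ∣ p - 1 ∨ q ∣ p + 1 := by
  have h1 := hd.trans (h.relIndex_C_dvd_two hp hn)
  rw [show p ^ 2 - 1 = (p + 1) * (p - 1) by rw [← Nat.sq_sub_sq, one_pow],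
    show p ^ 2 - p = p * (p - 1) by rw [Nat.mul_sub_one, sq]] at h1
  simp only [Nat.Prime.dvd_mul hq, Nat.prime_dvd_prime_iff_eq hq hp] at h1
  tauto

/-! ### ranks -/

theorem bddAbove_el (hp : p.Prime) (M : Subgroup G) : BddAbove {k | ∃ A, El p k A M} :=
  ⟨Nat.card M, fun k ⟨_, h⟩ => (Nat.lt_pow_self hp.one_lt).le.trans
    (h.2.2 ▸ Nat.le_of_dvd (card_pos M) (card_dvd_of_le h.1))⟩

theorem bddAbove_el' (M : Subgroup G) : BddAbove {k | ∃ p : ℕ, p.Prime ∧ ∃ A, El p k A M} :=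
  ⟨Nat.card M, fun k ⟨_, hp, _, h⟩ => (Nat.lt_pow_self hp.one_lt).le.trans
    (h.2.2 ▸ Nat.le_of_dvd (card_pos M) (card_dvd_of_le h.1))⟩

theorem El.le_pRank (hp : p.Prime) {A M : Subgroup G} (h : El p k A M) : k ≤ pRank p M :=
  le_csSup (bddAbove_el hp M) ⟨A, h⟩

theorem El.le_rank (hp : p.Prime) {A M : Subgroup G} (h : El p k A M) : k ≤ rank M :=
  le_csSup (bddAbove_el' M) ⟨p, hp, A, h⟩

theorem exists_el_pRank (hp : p.Prime) (M : Subgroup G) : ∃ A, El p (pRank p M) A M :=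
  Nat.sSup_mem (s := {k | ∃ A, El p k A M}) ⟨0, ⊥, el_zero⟩ (bddAbove_el hp M)

theorem exists_el_rank (M : Subgroup G) : ∃ p : ℕ, p.Prime ∧ ∃ A, El p (rank M) A M :=
  Nat.sSup_mem (s := {k | ∃ p : ℕ, p.Prime ∧ ∃ A, El p k A M}) ⟨0, 2, Nat.prime_two, ⊥, el_zero⟩
    (bddAbove_el' M)

theorem le_pRank_iff (hp : p.Prime) {M : Subgroup G} : k ≤ pRank p M ↔ ∃ A, El p k A M :=
  ⟨fun h => let ⟨_, hA⟩ := exists_el_pRank hp M; let ⟨B, hB⟩ := hA.exists_le hp h; ⟨B, hB.mono hA.1⟩,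
    fun ⟨_, h⟩ => h.le_pRank hp⟩

theorem lt_pRank_iff (hp : p.Prime) {M : Subgroup G} : k < pRank p M ↔ ∃ A, El p (k + 1) A M :=
  le_pRank_iff hp

theorem le_rank_iff {M : Subgroup G} : k ≤ rank M ↔ ∃ p : ℕ, p.Prime ∧ ∃ A, El p k A M :=
  ⟨fun h => let ⟨p, hp, _, hA⟩ := exists_el_rank M; let ⟨B, hB⟩ := hA.exists_le hp h
    ⟨p, hp, B, hB.mono hA.1⟩, fun ⟨_, hp, _, h⟩ => h.le_rank hp⟩

theorem lt_rank_iff {M : Subgroup G} : k < rank M ↔ ∃ p : ℕ, p.Prime ∧ ∃ A, El p (k + 1) A M :=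
  le_rank_iff

theorem pRank_le_iff (hp : p.Prime) {M : Subgroup G} :
    pRank p M ≤ k ↔ ∀ j A, El p j A M → j ≤ k :=
  ⟨fun h _ _ hA => (hA.le_pRank hp).trans h, fun h => let ⟨A, hA⟩ := exists_el_pRank hp M; h _ A hA⟩

theorem pRank_le_rank (hp : p.Prime) (M : Subgroup G) : pRank p M ≤ rank M :=
  let ⟨_, h⟩ := exists_el_pRank hp M; h.le_rank hp

theorem rank_le_iff {M : Subgroup G} : rank M ≤ k ↔ ∀ p : ℕ, p.Prime → pRank p M ≤ k :=
  ⟨fun h _ hp => (pRank_le_rank hp M).trans h,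
    fun h => let ⟨p, hp, _, hA⟩ := exists_el_rank M; (hA.le_pRank hp).trans (h p hp)⟩

theorem exists_rank_eq_pRank (M : Subgroup G) : ∃ p : ℕ, p.Prime ∧ rank M = pRank p M :=
  let ⟨p, hp, _, hA⟩ := exists_el_rank M; ⟨p, hp, le_antisymm (hA.le_pRank hp) (pRank_le_rank hp M)⟩

theorem lt_rank_iff' {M : Subgroup G} : k < rank M ↔ ∃ p : ℕ, p.Prime ∧ k < pRank p M :=
  ⟨fun h => let ⟨p, hp, e⟩ := exists_rank_eq_pRank M; ⟨p, hp, e ▸ h⟩,
    fun ⟨_, hp, h⟩ => h.trans_le (pRank_le_rank hp M)⟩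

theorem pRank_mono (p : ℕ) {M L : Subgroup G} (h : M ≤ L) [hp : Fact p.Prime] : pRank p M ≤ pRank p L :=
  let ⟨_, hA⟩ := exists_el_pRank hp.out M; (hA.mono h).le_pRank hp.out

theorem pRank_mono' (hp : p.Prime) {M L : Subgroup G} (h : M ≤ L) : pRank p M ≤ pRank p L :=
  haveI := Fact.mk hp; pRank_mono p h

theorem rank_mono {M L : Subgroup G} (h : M ≤ L) : rank M ≤ rank L :=
  let ⟨_, hp, _, hA⟩ := exists_el_rank M; (hA.mono h).le_rank hp

theorem exists_el_of_equiv {H : Type u} [Group H] {M : Subgroup G} {L : Subgroup H} (e : M ≃* L)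
    {A : Subgroup G} (h : El p k A M) : ∃ B, El p k B L := by
  let f := L.subtype.comp e.toMonoidHom
  have hf : Function.Injective f := L.subtype_injective.comp e.injective
  refine ⟨img f A, ?_, h.2.1.img f, by
    rw [card_img_of_inj h.1 (by rw [ker_eq_bot_of_injective hf, inf_bot_eq]), h.2.2]⟩
  rintro _ ⟨x, -, rfl⟩; exact (e x).2

theorem pRank_congr {H : Type u} [Group H] [Finite H] {M : Subgroup G} {L : Subgroup H} (e : M ≃* L) :
    pRank p M = pRank p L := by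
  rw [pRank, pRank]; congr 1; ext k
  exact ⟨fun ⟨_, h⟩ => exists_el_of_equiv e h, fun ⟨_, h⟩ => exists_el_of_equiv e.symm h⟩

theorem rank_congr {H : Type u} [Group H] [Finite H] {M : Subgroup G} {L : Subgroup H} (e : M ≃* L) :
    rank M = rank L := by
  rw [rank, rank]; congr 1; ext k
  exact ⟨fun ⟨p, hp, _, h⟩ => ⟨p, hp, exists_el_of_equiv e h⟩,
    fun ⟨p, hp, _, h⟩ => ⟨p, hp, exists_el_of_equiv e.symm h⟩⟩

theorem pRank_cj (p : ℕ) (g : G) (M : Subgroup G) : pRank p (cj g M) = pRank p M :=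
  (pRank_congr (cjEquiv g M)).symm

theorem rank_cj (g : G) (M : Subgroup G) : rank (cj g M) = rank M := (rank_congr (cjEquiv g M)).symm

theorem pRank_pos_iff (hp : p.Prime) {M : Subgroup G} : 0 < pRank p M ↔ p ∣ Nat.card M :=
  (lt_pRank_iff hp).trans ⟨fun ⟨_, h⟩ => h.dvd_card, exists_el_one hp⟩

theorem pRank_eq_zero_iff (hp : p.Prime) {M : Subgroup G} : pRank p M = 0 ↔ ¬ p ∣ Nat.card M := by
  rw [← pRank_pos_iff hp]; omega

theorem rank_pos_iff {M : Subgroup G} : 0 < rank M ↔ M ≠ ⊥ :=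
  lt_rank_iff.trans ⟨fun ⟨_, hp, _, h⟩ e => h.ne_bot hp (le_bot_iff.mp (e ▸ h.1)), exists_el_one_of_ne_bot⟩

theorem rank_eq_zero_iff {M : Subgroup G} : rank M = 0 ↔ M = ⊥ := by
  rw [← not_iff_not, ← Ne, ← Ne, ← rank_pos_iff]; omega

theorem rank_bot : rank (⊥ : Subgroup G) = 0 := rank_eq_zero_iff.mpr rfl

theorem pRank_bot (hp : p.Prime) : pRank p (⊥ : Subgroup G) = 0 :=
  Nat.le_zero.mp ((pRank_le_rank hp _).trans rank_bot.le)

theorem rank_eq_pRank (hp : p.Prime) {P : Subgroup G} (h : IsPGroup p P) : rank P = pRank p P := by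
  refine le_antisymm (rank_le_iff.mpr fun q hq => ?_) (pRank_le_rank hp P)
  by_cases e : q = p
  · rw [e]
  · rw [(pRank_eq_zero_iff hq).mpr (((piG_single hp).mpr h).not_dvd hq e)]; exact Nat.zero_le _

theorem pow_pRank_dvd (hp : p.Prime) (M : Subgroup G) : p ^ pRank p M ∣ Nat.card M :=
  let ⟨_, h⟩ := exists_el_pRank hp M; h.2.2 ▸ card_dvd_of_le h.1

theorem pRank_le_of_card_dvd (hp : p.Prime) {M : Subgroup G} (h : Nat.card M ∣ p ^ k) : pRank p M ≤ k :=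
  (Nat.pow_dvd_pow_iff_le_right hp.one_lt).mp ((pow_pRank_dvd hp M).trans h)

theorem pRank_le_factorization (hp : p.Prime) (M : Subgroup G) :
    pRank p M ≤ (Nat.card M).factorization p :=
  (hp.pow_dvd_iff_le_factorization (card_ne_zero M)).mp (pow_pRank_dvd hp M)

theorem El.pRank_eq (hp : p.Prime) {A M : Subgroup G} (h : El p k A M) : pRank p A = k :=
  le_antisymm (pRank_le_of_card_dvd hp h.2.2.dvd) (h.self.le_pRank hp)

theorem El.rank_eq (hp : p.Prime) {A M : Subgroup G} (h : El p k A M) : rank A = k := by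
  rw [rank_eq_pRank hp h.isPGroup, h.pRank_eq hp]

theorem _root_.CfsgH6.ElAb.el_pRank (hp : p.Prime) {A : Subgroup G} (h : ElAb p A) :
    El p (pRank p A) A A := let ⟨_, hk⟩ := h.exists_el hp; hk.pRank_eq hp ▸ hk

theorem _root_.CfsgH6.ElAb.el_rank (hp : p.Prime) {A : Subgroup G} (h : ElAb p A) :
    El p (rank A) A A := rank_eq_pRank hp h.isPGroup ▸ h.el_pRank hp

theorem Hall.pRank_eq {H M : Subgroup G} (h : Hall π H M) (hp : p.Prime) (hπ : p ∈ π) :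
    pRank p H = pRank p M := by
  refine le_antisymm (pRank_mono' hp h.1) ?_
  obtain ⟨A, hA⟩ := exists_el_pRank hp M
  obtain ⟨g, -, h1⟩ := h.exists_cj_le_of_isPGroup hp hπ hA.1 hA.isPGroup
  exact ((hA.cjj g).of_le h1).le_pRank hp

theorem _root_.CfsgH6.SylIn.pRank_eq (hp : p.Prime) {S M : Subgroup G} (h : SylIn p S M) :
    pRank p S = pRank p M := (h.hall hp).pRank_eq hp rfl

theorem _root_.CfsgH6.SylIn.rank_eq (hp : p.Prime) {S M : Subgroup G} (h : SylIn p S M) :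
    rank S = pRank p M := by rw [rank_eq_pRank hp h.2.1, h.pRank_eq hp]

theorem pRank_Om1 (hp : p.Prime) (M : Subgroup G) : pRank p (Om1 p M) = pRank p M :=
  le_antisymm (pRank_mono' hp (Om1_le p M))
    (let ⟨_, h⟩ := exists_el_pRank hp M; (h.of_le h.le_Om1).le_pRank hp)

theorem rank_Om1 (hp : p.Prime) {P : Subgroup G} (h : IsPGroup p P) : rank (Om1 p P) = rank P := by
  rw [rank_eq_pRank hp h, rank_eq_pRank hp (h.to_le (Om1_le p P)), pRank_Om1 hp]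

theorem el_Om1_of_ab (hp : p.Prime) {A : Subgroup G} (h : Ab A) : El p (pRank p A) (Om1 p A) A :=
  pRank_Om1 hp A ▸ ((elAb_Om1_of_ab h).el_pRank hp).mono (Om1_le p A)

theorem El.eq_Om1_of_ab (hp : p.Prime) {E A : Subgroup G} (h : Ab A) (hE : El p (pRank p A) E A) :
    E = Om1 p A := hE.eq_of_le (el_Om1_of_ab hp h) hE.le_Om1

theorem pRank_Fit (hp : p.Prime) (M : Subgroup G) : pRank p (Fit M) = pRank p (Op p M) :=
  ((sylIn_Op_Fit hp M).pRank_eq hp).symm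

theorem pRank_Op_of_nilpotent (hp : p.Prime) {M : Subgroup G} (h : Group.IsNilpotent M) :
    pRank p (Op p M) = pRank p M := (sylIn_Op_of_nilpotent hp h).pRank_eq hp

theorem rank_le_one_of_isCyclic {M : Subgroup G} (h : IsCyclic M) : rank M ≤ 1 := by
  by_contra h1
  obtain ⟨p, hp, A, hA⟩ := lt_rank_iff.mp (not_le.mp h1)
  exact hA.not_isCyclic_of_le hp h

theorem pRank_le_one_of_isCyclic (hp : p.Prime) {M : Subgroup G} (h : IsCyclic M) : pRank p M ≤ 1 :=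
  (pRank_le_rank hp M).trans (rank_le_one_of_isCyclic h)

theorem rank_eq_one_of_isCyclic {M : Subgroup G} (h : IsCyclic M) (hne : M ≠ ⊥) : rank M = 1 :=
  le_antisymm (rank_le_one_of_isCyclic h) (rank_pos_iff.mpr hne)

/-- `odd_pgroup_rank1_cyclic` -/
theorem isCyclic_iff_pRank_le_one (hp : p.Prime) {P : Subgroup G} (h : IsPGroup p P)
    (ho : Odd (Nat.card P)) : IsCyclic P ↔ pRank p P ≤ 1 :=
  ⟨pRank_le_one_of_isCyclic hp, fun h1 => by
    by_contra hc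
    obtain ⟨E, hE⟩ := exists_el_two_of_odd' hp h ho hc
    exact absurd ((hE.le_pRank hp).trans h1) (by norm_num)⟩

theorem isCyclic_iff_rank_le_one_of_odd (hp : p.Prime) {P : Subgroup G} (h : IsPGroup p P)
    (ho : Odd (Nat.card P)) : IsCyclic P ↔ rank P ≤ 1 := by
  rw [rank_eq_pRank hp h, isCyclic_iff_pRank_le_one hp h ho]

theorem isCyclic_of_pRank_le_one (hp : p.Prime) {P M : Subgroup G} (h : IsPGroup p P) (hP : P ≤ M)
    (ho : Odd (Nat.card M)) (hr : pRank p M ≤ 1) : IsCyclic P :=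
  (isCyclic_iff_pRank_le_one hp h (odd_of_le ho hP)).mpr ((pRank_mono' hp hP).trans hr)

theorem isZGroup_iff_rank_le_one {M : Subgroup G} (ho : Odd (Nat.card M)) :
    IsZGroup M ↔ rank M ≤ 1 :=
  ⟨fun h => rank_le_iff.mpr fun q hq => by
    obtain ⟨S, hS⟩ := exists_sylIn q M
    rw [← hS.pRank_eq hq]; exact pRank_le_one_of_isCyclic hq (isCyclic_of_isZGroup hq h hS.1 hS.2.1),
  fun h => isZGroup_of_forall_sylIn fun q hq _ => let ⟨S, hS⟩ := exists_sylIn q M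
    ⟨S, hS, isCyclic_of_pRank_le_one hq hS.2.1 hS.1 ho ((pRank_le_rank hq M).trans h)⟩⟩

theorem isCyclic_iff_rank_le_one_of_nilpotent {M : Subgroup G} (h : Group.IsNilpotent M)
    (ho : Odd (Nat.card M)) : IsCyclic M ↔ rank M ≤ 1 :=
  ⟨rank_le_one_of_isCyclic, fun h1 =>
    isCyclic_of_nilpotent_of_isZGroup h ((isZGroup_iff_rank_le_one ho).mpr h1)⟩

/-- `abelian_rank1_cyclic` -/
theorem isCyclic_iff_rank_le_one_of_ab {A : Subgroup G} (h : Ab A) : IsCyclic A ↔ rank A ≤ 1 :=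
  ⟨rank_le_one_of_isCyclic, fun h1 => isCyclic_of_nilpotent_of_sylIn (nilpotent_of_ab h)
    fun q hq _ => by
      obtain ⟨S, hS⟩ := exists_sylIn q A
      refine ⟨S, hS, ?_⟩
      by_contra hc
      obtain ⟨E, hE⟩ := exists_el_two_of_ab hq hS.2.1 (h.mono hS.1) hc
      exact absurd (((hE.mono hS.1).le_rank hq).trans h1) (by norm_num)⟩

theorem exists_el_two_of_ab' {A : Subgroup G} (h : Ab A) (hc : ¬ IsCyclic A) :
    ∃ p : ℕ, p.Prime ∧ ∃ E, El p 2 E A :=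
  lt_rank_iff.mp (not_le.mp fun h1 => hc ((isCyclic_iff_rank_le_one_of_ab h).mpr h1))

theorem pRank_le_add_img {H : Type u} [Group H] [Finite H] (hp : p.Prime) {L M : Subgroup G}
    (f : L →* H) (h : M ≤ L) : pRank p M ≤ pRank p (M ⊓ pre f ⊥) + pRank p (img f M) := by
  obtain ⟨A, hA⟩ := exists_el_pRank hp M
  obtain ⟨i, hi⟩ := (hA.2.1.mono (inf_le_right : pre f ⊥ ⊓ A ≤ A)).exists_el hp
  obtain ⟨j, hj⟩ := (hA.2.1.img f).exists_el hp
  have h1 := card_inf_mul_relIndex (pre f ⊥) A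
  rw [← card_img' f (hA.1.trans h), hi.2.2, hj.2.2, hA.2.2, ← pow_add] at h1
  rw [← Nat.pow_right_injective hp.two_le h1]
  exact add_le_add ((hi.of_le (le_inf (inf_le_right.trans hA.1) inf_le_left)).le_pRank hp)
    ((hj.of_le (img_mono f hA.1)).le_pRank hp)

/-- `p_rank_quotient` -/
theorem pRank_le_add_quo (hp : p.Prime) {K M : Subgroup G} (h : Nrm M K) :
    pRank p M ≤ pRank p K + pRank p (quo K M) :=
  (pRank_le_add_img hp (qm K) h.le_N).trans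
    (Nat.add_le_add_right (pRank_mono' hp (inf_le_right.trans (ker_qm K).le)) _)

theorem pRank_le_add_of_relIndex_dvd (hp : p.Prime) {K M : Subgroup G} (h : Nrm M K)
    (hd : K.relIndex M ∣ p ^ k) : pRank p M ≤ pRank p K + k :=
  (pRank_le_add_quo hp h).trans
    (Nat.add_le_add_left (pRank_le_of_card_dvd hp (by rwa [card_quo h])) _)

theorem pRank_le_succ_of_isCyclic_quo (hp : p.Prime) {K M : Subgroup G} (h : Nrm M K)
    (hc : IsCyclic (quo K M)) : pRank p M ≤ pRank p K + 1 :=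
  (pRank_le_add_quo hp h).trans (Nat.add_le_add_left (pRank_le_one_of_isCyclic hp hc) _)

theorem SDP.pRank_le (hp : p.Prime) {K E M : Subgroup G} (h : SDP K E M) :
    pRank p M ≤ pRank p K + pRank p E := by
  rw [pRank_congr h.quoEquiv]; exact pRank_le_add_quo hp h.normalIn.2

theorem pRank_add_le_of_dp (hp : p.Prime) {A B M : Subgroup G} (h1 : A ≤ M) (h2 : B ≤ M)
    (hc : A ≤ C B) (hi : A ⊓ B = ⊥) : pRank p A + pRank p B ≤ pRank p M := by
  obtain ⟨X, hX⟩ := exists_el_pRank hp A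
  obtain ⟨Y, hY⟩ := exists_el_pRank hp B
  exact ((hX.mono h1).sup (hY.mono h2) (hX.1.trans (hc.trans (C_anti hY.1)))
    (le_bot_iff.mp ((inf_le_inf hX.1 hY.1).trans hi.le))).le_pRank hp

/-- `p_rank_dprod` -/
theorem DP.pRank_eq (hp : p.Prime) {A B M : Subgroup G} (h : DP A B M) :
    pRank p M = pRank p A + pRank p B :=
  le_antisymm (h.sdp.pRank_le hp) (pRank_add_le_of_dp hp h.left_le h.right_le h.cent' h.2.1)

/-- `p_rank_p'quotient` -/
theorem pRank_quo_of_not_dvd (hp : p.Prime) {K M : Subgroup G} (h : Nrm M K)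
    (hK : ¬ p ∣ Nat.card K) : pRank p (quo K M) = pRank p M := by
  obtain ⟨S, hS⟩ := exists_sylIn p M
  rw [← hS.pRank_eq hp, ← (hS.quo hp h).pRank_eq hp]
  exact (pRank_congr (quoEquiv (h.mono hS.1)
    (inf_eq_bot_of_coprime' (coprime_of_isPGroup_of_not_dvd hp hS.2.1 hK)))).symm

theorem pRank_eq_of_not_dvd_relIndex (hp : p.Prime) {K M : Subgroup G} (h : K ≤ M)
    (hK : ¬ p ∣ K.relIndex M) : pRank p K = pRank p M := by
  obtain ⟨S, hS⟩ := exists_sylIn p K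
  rw [← hS.pRank_eq hp, (hS.trans_not_dvd hp h hK).pRank_eq hp]

theorem pRank_img_le_of_ab {H : Type u} [Group H] [Finite H] (hp : p.Prime) {L A : Subgroup G}
    (f : L →* H) (h : A ≤ L) (hA : Ab A) : pRank p (img f A) ≤ pRank p A := by
  rw [← Nat.pow_dvd_pow_iff_le_right hp.one_lt, ← (el_Om1_of_ab hp hA).2.2,
    ← (el_Om1_of_ab hp (hA.img f)).2.2, ← relIndex_Mho1_of_ab hA, ← relIndex_Mho1_of_ab (hA.img f),
    ← img_Mho1 f h]
  exact relIndex_img_dvd f (Mho1_le p A) h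

/-- `quotient_p_rank_abelian` -/
theorem pRank_quo_le_of_ab (hp : p.Prime) {K A : Subgroup G} (h : Nrm A K) (hA : Ab A) :
    pRank p (quo K A) ≤ pRank p A := pRank_img_le_of_ab hp _ h.le_N hA

theorem rank_quo_le_of_ab {K A : Subgroup G} (h : Nrm A K) (hA : Ab A) : rank (quo K A) ≤ rank A :=
  rank_le_iff.mpr fun _ hq => (pRank_quo_le_of_ab hq h hA).trans (pRank_le_rank hq A)

/-- the rank of the centralizer of a normal `E_{p²}` in a `p`-group -/
theorem pRank_le_succ_inf_C (hp : p.Prime) {E P : Subgroup G} (hP : IsPGroup p P)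
    (hE : Nat.card E = p ^ 2) (hn : Nrm P E) : pRank p P ≤ pRank p (P ⊓ C E) + 1 :=
  pRank_le_add_of_relIndex_dvd hp ((Nrm.self P).inf hn.C)
    (by rw [inf_relIndex_left, pow_one]; exact relIndex_C_dvd_of_card_sq hp hP hE hn)

/-! ### maximal elementary abelian subgroups, `SCN` -/

theorem ElMax.le {A M : Subgroup G} (h : ElMax p A M) : A ≤ M := h.1
theorem ElMax.elAb {A M : Subgroup G} (h : ElMax p A M) : ElAb p A := h.2.1
theorem ElMax.eq_of_le {A B M : Subgroup G} (h : ElMax p A M) (h1 : B ≤ M) (h2 : ElAb p B)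
    (h3 : A ≤ B) : B = A := h.2.2 B h1 h2 h3
theorem ElMax.of_le {A H M : Subgroup G} (h : ElMax p A M) (h1 : A ≤ H) (h2 : H ≤ M) : ElMax p A H :=
  ⟨h1, h.2.1, fun B h3 => h.2.2 B (h3.trans h2)⟩
theorem ElMax.cjj {A M : Subgroup G} (h : ElMax p A M) (g : G) : ElMax p (cj g A) (cj g M) :=
  ⟨cj_mono h.1, h.2.1.cjj g, fun B h1 h2 h3 => by
    rw [← h.2.2 (cj g⁻¹ B) (le_cj_iff.mp h1) (h2.cjj _) (cj_le_iff.mp h3), cj_cj_inv]⟩
theorem ElMax.le_of_le_C {A B M : Subgroup G} (h : ElMax p A M) (h1 : B ≤ M) (h2 : ElAb p B)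
    (h3 : B ≤ C A) : B ≤ A :=
  le_sup_left.trans (h.2.2 _ (sup_le h1 h.1) (h2.sup h.2.1 (le_C_iff.mp h3)) le_sup_right).le
theorem elAb_zpowers {x : G} (h : x ^ p = 1) : ElAb p (zpowers x) :=
  ⟨ab_iff.mp (ab_zpowers x), fun _ hy =>
    orderOf_dvd_iff_pow_eq_one.mp ((orderOf_dvd_of_mem_zpowers hy).trans (orderOf_dvd_of_pow_eq_one h))⟩
theorem ElMax.mem {A M : Subgroup G} (h : ElMax p A M) {x : G} (h1 : x ∈ M) (h2 : x ∈ C A)
    (h3 : x ^ p = 1) : x ∈ A :=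
  zpowers_le.mp (h.le_of_le_C (zpowers_le.mpr h1) (elAb_zpowers h3) (zpowers_le.mpr h2))
/-- `pmaxElem_LdivP` -/
theorem elMax_iff {A M : Subgroup G} :
    ElMax p A M ↔ A ≤ M ∧ ElAb p A ∧ ∀ x ∈ M, x ∈ C A → x ^ p = 1 → x ∈ A :=
  ⟨fun h => ⟨h.1, h.2.1, fun _ => h.mem⟩, fun h => ⟨h.1, h.2.1, fun _ h1 h2 h3 =>
    le_antisymm (fun x hx => h.2.2 x (h1 hx) (C_anti h3 (h2.ab hx)) (h2.2 x hx)) h3⟩⟩
/-- `Ohm1_cent_max` -/
theorem ElMax.Om1_inf_C {A M : Subgroup G} (h : ElMax p A M) : Om1 p (M ⊓ C A) = A :=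
  le_antisymm (Om1_le_iff.mpr fun _ h1 h2 => h.mem h1.1 h1.2 h2) (h.2.1.le_Om1 (le_inf h.1 h.2.1.ab))
theorem elMax_of_Om1_le {A M : Subgroup G} (h1 : A ≤ M) (h2 : ElAb p A) (h : Om1 p (M ⊓ C A) ≤ A) :
    ElMax p A M := elMax_iff.mpr ⟨h1, h2, fun _ h3 h4 h5 => h (mem_Om1 ⟨h3, h4⟩ h5)⟩
theorem ElMax.Om1_Z_le {A M : Subgroup G} (h : ElMax p A M) : Om1 p (Z M) ≤ A :=
  (Om1_mono p (inf_le_inf_left _ (C_anti h.1))).trans h.Om1_inf_C.le
theorem exists_elMax_ge {A M : Subgroup G} (h1 : A ≤ M) (h2 : ElAb p A) : ∃ B, A ≤ B ∧ ElMax p B M :=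
  let ⟨B, h3, h4, h5⟩ := exists_maximal_ge (P := fun B => B ≤ M ∧ ElAb p B) ⟨h1, h2⟩
  ⟨B, h3, h4.1, h4.2, fun W h6 h7 h8 => h5 W ⟨h6, h7⟩ h8⟩
theorem El.elMax_of_pRank_le (hp : p.Prime) {A M : Subgroup G} (h : El p k A M) (hk : pRank p M ≤ k) :
    ElMax p A M := ⟨h.1, h.2.1, fun B h1 h2 h3 => by
  obtain ⟨j, hj⟩ := h2.exists_el hp
  obtain rfl : j = k := le_antisymm (((hj.of_le h1).le_pRank hp).trans hk) (h.le_of_le hp hj h3)
  exact (h.eq_of_le hj h3).symm⟩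
theorem El.elMax_iff (hp : p.Prime) {A M : Subgroup G} (h : El p k A M) :
    ElMax p A M ↔ pRank p (M ⊓ C A) ≤ k :=
  ⟨fun h1 => by rw [← pRank_Om1 hp, h1.Om1_inf_C, h.pRank_eq hp], fun h1 =>
    CfsgFT.elMax_iff.mpr ⟨h.1, h.2.1, fun x h2 h3 h4 =>
      ((h.of_le (le_inf h.1 h.ab)).elMax_of_pRank_le hp h1).mem ⟨h2, h3⟩ h3 h4⟩⟩
theorem El.exists_gt_of_not_elMax (hp : p.Prime) {A M : Subgroup G} (h : El p k A M)
    (hm : ¬ ElMax p A M) : ∃ B, A ≤ B ∧ El p (k + 1) B M := by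
  obtain ⟨B, h1, h2⟩ := exists_elMax_ge h.1 h.2.1
  obtain ⟨j, hj⟩ := h2.2.1.exists_el hp
  have : k < j := lt_of_le_of_ne (h.le_of_le hp hj h1) fun e => hm (by
    subst e; exact h.eq_of_le hj h1 ▸ h2)
  obtain ⟨X, h3, h4⟩ := h.exists_between hp hj h1 k.le_succ this
  exact ⟨X, h3, h4.mono h2.1⟩
/-- an element of `E*_p(H)` stays maximal in `M` if `H` contains a Sylow subgroup of `C_M(A)` -/
theorem ElMax.of_inf_C_le {A H M : Subgroup G} (h : ElMax p A H) (h1 : H ≤ M)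
    (h2 : Om1 p (M ⊓ C A) ≤ H) : ElMax p A M :=
  CfsgFT.elMax_iff.mpr ⟨h.1.trans h1, h.2.1, fun _ h3 h4 h5 => h.mem (h2 (mem_Om1 ⟨h3, h4⟩ h5)) h4 h5⟩

theorem SCN.le {A P : Subgroup G} (h : SCN A P) : A ≤ P := h.1
theorem SCN.nrm {A P : Subgroup G} (h : SCN A P) : Nrm P A := h.2.1
theorem SCN.normalIn {A P : Subgroup G} (h : SCN A P) : NormalIn A P := ⟨h.1, h.2.1⟩
theorem SCN.eq {A P : Subgroup G} (h : SCN A P) : P ⊓ C A = A := h.2.2
theorem SCN.ab {A P : Subgroup G} (h : SCN A P) : Ab A := h.2.2.ge.trans inf_le_right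
theorem SCN.le_of_le_C {A P X : Subgroup G} (h : SCN A P) (h1 : X ≤ P) (h2 : X ≤ C A) : X ≤ A :=
  (le_inf h1 h2).trans h.2.2.le
theorem SCN.Z_le {A P : Subgroup G} (h : SCN A P) : Z P ≤ A :=
  h.le_of_le_C (CfsgFT.Z_le P) ((Z_le_C P).trans (C_anti h.1))
theorem SCN.of_le {A P Q : Subgroup G} (h : SCN A P) (h1 : A ≤ Q) (h2 : Q ≤ P) : SCN A Q :=
  ⟨h1, h.2.1.mono h2, le_antisymm ((inf_le_inf_right _ h2).trans h.2.2.le) (le_inf h1 h.ab)⟩
theorem SCN.cjj {A P : Subgroup G} (h : SCN A P) (g : G) : SCN (cj g A) (cj g P) :=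
  ⟨cj_mono h.1, h.2.1.cjj g, by rw [← cj_C, ← cj_inf, h.2.2]⟩

/-- a maximal abelian normal subgroup of a nilpotent group is self-centralizing -/
theorem exists_SCN_ge_of_nilpotent {A P : Subgroup G} (hP : Group.IsNilpotent P) (h1 : A ≤ P)
    (h2 : Nrm P A) (h3 : Ab A) : ∃ B, SCN B P ∧ A ≤ B := by
  obtain ⟨B, h4, ⟨h5, h6, h7⟩, h8⟩ := exists_maximal_ge (P := fun B => B ≤ P ∧ Nrm P B ∧ Ab B)
    ⟨h1, h2, h3⟩
  refine ⟨B, ⟨h5, h6, ?_⟩, h4⟩
  by_contra hne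
  have h9 : quo B (P ⊓ C B) ⊓ Z (quo B P) ≠ ⊥ := inf_Z_ne_bot_of_nilpotent (nilpotent_quo B hP)
    (((NormalIn.refl P).inf h6.C).img _) (by
      rw [Ne, quo_eq_bot (h6.mono inf_le_left)]
      exact fun e => hne (le_antisymm e (le_inf h5 h7)))
  obtain ⟨y, hy, hy1⟩ := (Subgroup.bot_or_exists_ne_one _).resolve_left h9
  have h10 : coq B (zpowers y) ≤ P ⊓ C B := coq_le_of_le_quo (le_inf h5 h7) (zpowers_le.mpr hy.1)
  have := h8 (coq B (zpowers y)) ⟨h10.trans inf_le_left, nrm_coq_of_quo h6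
    (nrm_of_le_Z (zpowers_le.mpr hy.2)), ab_of_isCyclic_quo (le_C_symm (h10.trans inf_le_right))
      (nrm_coq B _) (by rw [quo_coq]; infer_instance)⟩ (le_coq _ _)
  exact hy1 (zpowers_eq_bot.mp (coq_eq_self.mp this))

end CfsgFT
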